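import Cfsg.Agent.H82.GW.Setting

/-!
# Gorenstein–Walter: elements fusing the four groups through the central involution
-/

set_option autoImplicit false
open Cfsg

namespace Cfsg.Agent.H61.GW

open Subgroup Cfsg.Agent Cfsg.Agent.GW

universe u

variable {G : Type u} [Group G] [Finite G] {S : Sylow 2 G} {l : ℕ} {c s : G}

/-- A nonabelian simple group has no subgroup of index two. -/
theorem index_ne_two [IsSimpleGroup G] (hG : ¬ IsMulCommutative G) (H : Subgroup G) :
    H.index ≠ 2 := by
  intro hH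
  rcases IsSimpleGroup.eq_bot_or_eq_top_of_normal H (normal_of_index_eq_two hH) with rfl | rfl
  · rw [index_bot] at hH
    haveI : Fact (Nat.Prime 2) := ⟨Nat.prime_two⟩
    haveI := isCyclic_of_prime_card hH
    let _ := IsCyclic.commGroup (α := G)
    exact hG ⟨⟨mul_comm⟩⟩
  · rw [index_top] at hH; omega

/-- All involutions of the configuration are conjugate to the central one. -/
theorem isConj_z (h : Cfg S l c s) {v : G} (hv : orderOf v = 2) : IsConj (c ^ l) v := by
  haveI := h.simple
  exact h.gen.isConj_z_of_no_index_two (index_ne_two h.nonab) hv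

/-- The reflection `c ^ i * s` forms a four group with the central involution. -/
theorem commute_z (hg : H39.DGen (S : Subgroup G) l c s) (i : ℤ) :
    Commute (c ^ l) (c ^ i * s) :=
  (hg.z_central (mul_mem (hg.zpow_mem i) hg.mem_s)).symm

/-- Each four group through the central involution is fused. -/
theorem exists_fuses (h : Cfg S l c s) (i : ℤ) : ∃ g, Fuses g (c ^ l) (c ^ i * s) := by
  haveI : Fact (Nat.Prime 2) := ⟨Nat.prime_two⟩
  have hg := h.gen
  set t := c ^ l with htdef
  set v := c ^ i * s with hvdef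
  have hv2 : v * v = 1 := hg.out_mul_self i
  have hvo : orderOf v = 2 := hg.orderOf_out i
  have htv : Commute t v := commute_z hg i
  have ht2 : t * t = 1 := H39.mul_self_of_orderOf_eq_two hg.z_order
  have hvS : v ∈ (S : Subgroup G) := mul_mem (hg.zpow_mem i) hg.mem_s
  have hne : t ≠ v := fun e => hg.out_not_mem i (hvdef ▸ e ▸ pow_mem (mem_zpowers c) l)
  obtain ⟨g₀, hg₀⟩ := isConj_iff.1 (isConj_z h hvo).symm
  have hlev : l = 1 ∨ Even l := by
    have hd : 2 * l ∣ Nat.card (S : Subgroup G) := by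
      rw [← hg.oc]
      have := orderOf_dvd_natCard (⟨c, hg.mem_c⟩ : (S : Subgroup G))
      rwa [← Subgroup.orderOf_coe] at this
    obtain ⟨n, hn⟩ := IsPGroup.iff_card.1 S.isPGroup'
    rw [hn] at hd
    obtain ⟨j, -, hj⟩ := (Nat.dvd_prime_pow Nat.prime_two).1 (dvd_trans (dvd_mul_left l 2) hd)
    rcases Nat.eq_zero_or_pos j with rfl | hj0
    · exact Or.inl (by simpa using hj)
    · exact Or.inr (hj ▸ Nat.even_pow.2 ⟨even_two, hj0.ne'⟩)
  rcases hlev with hl | ⟨m, hm⟩
  · -- a four group as Sylow subgroup: Burnside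
    subst hl
    rw [pow_one] at htdef
    have hmem : ∀ x ∈ (S : Subgroup G), x = 1 ∨ x = t ∨ x = v ∨ x = t * v := by
      intro x hx
      have hz : ∀ y ∈ zpowers c, y = 1 ∨ y = t := fun y hy => by
        rcases hg.sq_one_cases hy (by
          obtain ⟨j, rfl⟩ := mem_zpowers_iff.1 hy
          rw [← zpow_add, ← two_mul, zpow_mul, show c ^ (2 : ℤ) = 1 by
            rw [zpow_two, ← htdef, ht2], one_zpow]) with e | e
        · exact Or.inl e
        · exact Or.inr (e.trans (by rw [pow_one, ← htdef]))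
      rcases hg.cases x hx with e | e
      · rcases hz x e with e' | e'
        · exact Or.inl e'
        · exact Or.inr (Or.inl e')
      · have e1 : x * v⁻¹ ∈ zpowers c := by
          rw [show x * v⁻¹ = x * s * (c ^ i)⁻¹ by
            rw [hvdef, mul_inv_rev, inv_eq_of_mul_eq_one_left
              (H39.mul_self_of_orderOf_eq_two hg.os), mul_assoc]]
          exact mul_mem e (inv_mem (zpow_mem (mem_zpowers c) i))
        rcases hz _ e1 with e' | e'
        · exact Or.inr (Or.inr (Or.inl (mul_inv_eq_one.1 e')))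
        · exact Or.inr (Or.inr (Or.inr (mul_inv_eq_iff_eq_mul.1 e')))
    have hS : IsMulCommutative (S : Subgroup G) := ⟨⟨fun a b => Subtype.ext (by
      show (a : G) * b = b * a
      rcases hmem a a.2 with ea | ea | ea | ea <;> rcases hmem b b.2 with eb | eb | eb | eb <;>
        rw [ea, eb] <;>
        first
          | exact rfl | simp | exact htv.eq | exact htv.eq.symm
          | exact ((Commute.refl t).mul_right htv).eq
          | exact ((Commute.refl t).mul_right htv).eq.symm
          | exact (htv.symm.mul_right (Commute.refl v)).eq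
          | exact (htv.symm.mul_right (Commute.refl v)).eq.symm)⟩⟩
    have htS : t ∈ (S : Subgroup G) := htdef ▸ hg.mem_c
    have hg₀' : g₀ * v * g₀⁻¹ = t := hg₀
    obtain ⟨g, hgN, hgt⟩ := Sylow.conj_eq_normalizer_conj_of_mem S t g₀ htS (by
      have e : g₀⁻¹ * t * g₀ = v := by rw [← hg₀']; group
      rwa [e])
    have e0 : g₀⁻¹ * t * g₀ = v := by rw [← hg₀']; group
    rw [e0] at hgt
    have hg1 : g⁻¹ * t * g⁻¹⁻¹ = v := by rw [inv_inv]; exact hgt.symm
    have hgN' : g⁻¹ ∈ normalizer ((S : Subgroup G) : Set G) := inv_mem hgN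
    rcases hmem _ ((mem_normalizer_iff.1 hgN' v).1 hvS) with e | e | e | e
    · exact absurd (conj_eq_one_iff.1 e) (H39.ne_one_of_orderOf_eq_two hvo)
    · -- a transposition of odd order is impossible
      exfalso
      set k := g⁻¹ with hkdef
      obtain ⟨a, b, hb, hab⟩ := Nat.exists_eq_two_pow_mul_odd (orderOf_pos k).ne'
      have hsq : ∀ x : G, x = t ∨ x = v → k ^ 2 * x * (k ^ 2)⁻¹ = x := by
        rintro x (rfl | rfl)
        · calc k ^ 2 * t * (k ^ 2)⁻¹ = k * (k * t * k⁻¹) * k⁻¹ := by rw [pow_two]; group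
            _ = t := by rw [hg1, e]
        · calc k ^ 2 * v * (k ^ 2)⁻¹ = k * (k * v * k⁻¹) * k⁻¹ := by rw [pow_two]; group
            _ = v := by rw [e, hg1]
      have hkb : k ^ b * t * (k ^ b)⁻¹ = v := by
        obtain ⟨r, hr⟩ := hb
        have hc2 : ∀ r : ℕ, (k ^ 2) ^ r * t * ((k ^ 2) ^ r)⁻¹ = t := by
          intro r
          have h1 : Commute (k ^ 2) t := mul_inv_eq_iff_eq_mul.1 (hsq t (Or.inl rfl))
          rw [(h1.pow_left r).eq, mul_inv_cancel_right]
        calc k ^ b * t * (k ^ b)⁻¹ = k * ((k ^ 2) ^ r * t * ((k ^ 2) ^ r)⁻¹) * k⁻¹ := by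
              rw [hr, ← pow_mul, pow_succ' k (2 * r)]; group
          _ = v := by rw [hc2, hg1]
      have hp : IsPGroup 2 (zpowers (k ^ b)) := IsPGroup.of_card (n := a) (by
        rw [Nat.card_zpowers, orderOf_pow' k hb.pos.ne', hab, Nat.gcd_mul_left_left,
          Nat.mul_div_cancel _ hb.pos])
      have hkn : zpowers (k ^ b) ≤ normalizer ((S : Subgroup G) : Set G) :=
        zpowers_le.2 (pow_mem hgN' b)
      have hle : (S : Subgroup G) ⊔ zpowers (k ^ b) = (S : Subgroup G) :=
        S.is_maximal' (S.isPGroup'.to_sup_of_normal_left' hp hkn) le_sup_left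
      have hkS : k ^ b ∈ (S : Subgroup G) := hle.le (le_sup_right (b := zpowers (k ^ b))
        (mem_zpowers _))
      refine hne ?_
      rw [← hkb]
      have h1 := congrArg Subtype.val (hS.is_comm.comm ⟨_, hkS⟩ ⟨t, htS⟩)
      rw [show k ^ b * t = t * k ^ b from h1, mul_inv_cancel_right]
    · exfalso
      refine hne ?_
      have : g⁻¹ * v * g⁻¹⁻¹ = g⁻¹ * t * g⁻¹⁻¹ := e.trans hg1.symm
      exact (mul_left_cancel (mul_right_cancel this)).symm
    · exact ⟨g⁻¹, hg1, e⟩
  · -- `|S| ≥ 8`
    have hcw : t * (g₀ * t * g₀⁻¹) = (g₀ * t * g₀⁻¹) * t := by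
      have h1 : Commute (g₀ * v * g₀⁻¹) (g₀ * t * g₀⁻¹) := (Commute.conj_iff g₀).2 htv.symm
      rw [hg₀] at h1
      exact h1.eq
    have hHS : (S : Subgroup G) ≤ centralizer ({t} : Set G) :=
      fun x hx => mem_centralizer_singleton_iff.2 (hg.z_central hx)
    set u := g₀ * t * g₀⁻¹ with hudef
    have hu2 : u * u = 1 := by
      rw [hudef, show g₀ * t * g₀⁻¹ * (g₀ * t * g₀⁻¹) = g₀ * (t * t) * g₀⁻¹ by group, ht2]
      group
    have huH : u ∈ centralizer ({t} : Set G) := mem_centralizer_singleton_iff.2 hcw.symm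
    have hup : IsPGroup 2 (zpowers (⟨u, huH⟩ : centralizer ({t} : Set G))) := by
      rintro ⟨x, hx⟩
      refine ⟨1, ?_⟩
      obtain ⟨j, rfl⟩ := mem_zpowers_iff.1 hx
      refine Subtype.ext (Subtype.ext ?_)
      simp only [Subgroup.coe_pow, SubgroupClass.coe_zpow, Subgroup.coe_one, pow_one]
      rw [← zpow_natCast (u ^ j), ← zpow_mul, mul_comm, zpow_mul, zpow_natCast, pow_two, hu2,
        one_zpow]
    obtain ⟨x, hx⟩ := H39.exists_conj_le_sylow hup (S.subtype hHS)
    have hxS := hx _ (mem_zpowers _)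
    rw [Sylow.coe_subtype, mem_subgroupOf] at hxS
    set g := (x : G) * g₀ with hgdef
    have hgv : g * v * g⁻¹ = t := by
      rw [hgdef, show (x : G) * g₀ * v * ((x : G) * g₀)⁻¹ = x * (g₀ * v * g₀⁻¹) * (x : G)⁻¹ by
        group, hg₀, mem_centralizer_singleton_iff.1 x.2, mul_inv_cancel_right]
    have hgt : g * t * g⁻¹ ∈ (S : Subgroup G) := by
      rw [hgdef, show (x : G) * g₀ * t * ((x : G) * g₀)⁻¹ = x * u * (x : G)⁻¹ by rw [hudef]; group]
      exact hxS
    have hgtc : g * t * g⁻¹ ∉ zpowers c := by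
      intro hc
      rcases hg.sq_one_cases hc (by
        rw [show g * t * g⁻¹ * (g * t * g⁻¹) = g * (t * t) * g⁻¹ by group, ht2]; group) with e | e
      · exact H39.ne_one_of_orderOf_eq_two hg.z_order (conj_eq_one_iff.1 e)
      · exact hne (mul_left_cancel (mul_right_cancel (e.trans hgv.symm)))
    obtain ⟨j, hj⟩ := hg.out_form hgt hgtc
    have hswap : ∀ r : ℤ, c ^ (m : ℤ) * (c ^ r * s) * (c ^ (m : ℤ))⁻¹ = t * (c ^ r * s) := by
      intro r
      rw [hg.conj_reflection, htdef, ← mul_assoc, ← zpow_natCast c l, ← zpow_add,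
        show r + 2 * (m : ℤ) = (l : ℤ) + r by rw [hm]; push_cast; ring]
    set a := c ^ (m : ℤ) with hadef
    set w := g⁻¹ * a * g with hwdef
    have hat : a * t * a⁻¹ = t := by
      rw [hg.z_central (hg.zpow_mem _), mul_inv_cancel_right]
    have hwv : w * v * w⁻¹ = v := by
      calc w * v * w⁻¹ = g⁻¹ * (a * (g * v * g⁻¹) * a⁻¹) * g := by rw [hwdef]; group
        _ = v := by rw [hgv, hat]; rw [← hgv]; group
    have hwt : w * t * w⁻¹ = v * t := by
      calc w * t * w⁻¹ = g⁻¹ * (a * (g * t * g⁻¹) * a⁻¹) * g := by rw [hwdef]; group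
        _ = g⁻¹ * (t * (g * t * g⁻¹)) * g := by rw [hj, hadef, hswap]
        _ = v * t := by rw [← hgv]; group
    refine ⟨a * w, ?_, ?_⟩
    · calc a * w * t * (a * w)⁻¹ = a * (w * t * w⁻¹) * a⁻¹ := by group
        _ = a * v * a⁻¹ * (a * t * a⁻¹) := by rw [hwt]; group
        _ = v := by rw [hat, hadef, hvdef, hswap, ← hvdef, htv.eq, mul_assoc, ht2, mul_one]
    · calc a * w * v * (a * w)⁻¹ = a * (w * v * w⁻¹) * a⁻¹ := by group
        _ = t * v := by rw [hwv, hadef, hvdef, hswap]

/-- The element fusing `⟨t, s⟩`. -/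
theorem exists_fuses_left (h : Cfg S l c s) : ∃ g, Fuses g (c ^ l) s := by
  simpa using exists_fuses h 0

/-- The element fusing `⟨t, c * s⟩`. -/
theorem exists_fuses_right (h : Cfg S l c s) : ∃ g, Fuses g (c ^ l) (c * s) := by
  simpa using exists_fuses h 1

end Cfsg.Agent.H61.GW
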