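import Cfsg.Agent.H61.GW.NoFixed

/-!
# Gorenstein–Walter: the trivial branches of the assembly

`O(C(t)) = 1` gives `PSL(2,q)` by S0508, and exactly one of `D`, `D'` trivial is impossible when
`C(t)` is maximal: the nontrivial one would be normalised by `C(t)` and by the fusing element.
-/

set_option autoImplicit false
open Cfsg

namespace Cfsg.Agent.H61.GW

open Subgroup Cfsg.Agent Cfsg.Agent.GW

universe u

variable {G : Type u} [Group G] [Finite G] {S : Sylow 2 G} {l : ℕ} {c s : G}

/-- The branch `O(C(t)) = 1`. -/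
theorem shape_of_core_bot (h : Cfg S l c s) (hO : coreAt (c ^ l) = ⊥) : H63.GW.SimpleShape G := by
  haveI := h.simple
  have hg := h.gen
  set t := c ^ l with htdef
  obtain ⟨F, i1, i2, hodd, ⟨e⟩⟩ := Cfsg.Agent.S0508.result S (2 * l)
    (by have := hg.lpos; omega) (nonempty_dihedral hg) t hg.z_order hg.z_mem
    (fun g hg' => hg.z_central hg') (coreAt t) rfl (fun hne => absurd hO hne)
    (fun g _ _ y hy => by
      rw [hO, mem_bot] at hy
      simp [hy])
    (fun Y hY hY1 => absurd (le_bot_iff.1 (hO ▸ hY)) hY1)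
  refine Or.inl ⟨F, i1, i2, hodd, ?_, ⟨e⟩⟩
  by_contra h3
  have h3' : Fintype.card F = 3 := by
    obtain ⟨k, hk⟩ := hodd
    have := Fintype.one_lt_card (α := F)
    omega
  have h4 := Cfsg.Agent.Linear.card_PSL_two_mul (F := F)
  rw [h3', ← Nat.card_congr e.toEquiv] at h4
  norm_num at h4
  haveI := Cfsg.Agent.Unitary.isSolvable_of_card_dvd_24 (G := G) (m := Nat.card G) rfl
    (by rw [show Nat.card G = 12 by omega]; norm_num)
  exact h.nonab ((IsSimpleGroup.comm_iff_isSolvable).2 inferInstance |> fun hc => ⟨⟨hc⟩⟩)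

/-- `C(t)` is generated by `O(C(t))` and the Sylow subgroup. -/
theorem centralizer_le_sup (hg : H39.DGen (S : Subgroup G) l c s) :
    centralizer ({c ^ l} : Set G) ≤ coreAt (c ^ l) ⊔ (S : Subgroup G) := by
  have hHS := sylow_le_centralizer hg
  obtain ⟨N, hN, hNodd, k, hk⟩ := Cfsg.Agent.S0514.result S (2 * l) (by have := hg.lpos; omega)
    (nonempty_dihedral hg) (c ^ l) hg.z_order
  haveI := hN
  have htop : N ⊔ (S : Subgroup G).subgroupOf (centralizer ({c ^ l} : Set G)) = ⊤ := by
    refine Subgroup.index_eq_one.1 (Nat.eq_one_of_dvd_coprimes ?_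
      (Subgroup.index_dvd_of_le le_sup_left) (Subgroup.index_dvd_of_le le_sup_right))
    rw [hk]
    refine Nat.Coprime.pow_left k (Nat.coprime_two_left.2 ?_)
    rw [← Nat.not_even_iff_odd, even_iff_two_dvd]
    exact (S.subtype hHS).not_dvd_index
  intro x hx
  have h1 : (⟨x, hx⟩ : centralizer ({c ^ l} : Set G)) ∈
      N ⊔ (S : Subgroup G).subgroupOf (centralizer ({c ^ l} : Set G)) := htop ▸ mem_top _
  have h2 := mem_map_of_mem (centralizer ({c ^ l} : Set G)).subtype h1
  rw [Subgroup.map_sup, map_subgroupOf_eq_of_le hHS] at h2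
  exact sup_le (le_sup_of_le_left (map_mono (Cores.le_oddCore hNodd))) le_sup_right h2

/-- The elements of odd order of `C(t)` lie in `O(C(t))`. -/
theorem mem_coreAt_of_odd (hg : H39.DGen (S : Subgroup G) l c s) {x : G}
    (hx : x ∈ centralizer ({c ^ l} : Set G)) (ho : Odd (orderOf x)) : x ∈ coreAt (c ^ l) := by
  obtain ⟨N, hN, hNodd, k, hk⟩ := Cfsg.Agent.S0514.result S (2 * l) (by have := hg.lpos; omega)
    (nonempty_dihedral hg) (c ^ l) hg.z_order
  haveI := hN
  refine map_mono (Cores.le_oddCore hNodd) ⟨⟨x, hx⟩, ?_, rfl⟩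
  have h1 := Subgroup.pow_index_mem N (⟨x, hx⟩ : centralizer ({c ^ l} : Set G))
  rw [hk] at h1
  have h2 : (2 ^ k).Coprime (orderOf (⟨x, hx⟩ : centralizer ({c ^ l} : Set G))) := by
    rw [← Subgroup.orderOf_coe]
    exact (Nat.coprime_two_left.2 ho).pow_left k
  obtain ⟨m, hm⟩ := exists_pow_eq_self_of_coprime h2
  exact hm ▸ pow_mem h1 m

/-- If `a` inverts `O(C(t))` and `b` is the other generating reflection, a fusing element of
`⟨t, b⟩` forces `D(b) = 1`. -/
theorem pairCore_eq_bot (h : Cfg S l c s) (hmax : CentMax l c) {a b : G}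
    (hab : (S : Subgroup G) ≤ closure ({a, b} : Set G))
    (ha : a ∈ (S : Subgroup G)) (hb : b ∈ (S : Subgroup G)) (ha2 : a * a = 1) (hb2 : orderOf b = 2)
    (hbt : b ≠ c ^ l) (hDa : pairCore (c ^ l) a = ⊥) (hθ : ∃ g, Fuses g (c ^ l) b) :
    pairCore (c ^ l) b = ⊥ := by
  have hg := h.gen
  set t := c ^ l with htdef
  set O := coreAt t with hOdef
  set D := pairCore t b with hDdef
  have hHS := sylow_le_centralizer hg
  have hinv : ∀ z ∈ O, a * z * a⁻¹ = z⁻¹ := fun z hz => inverts ha2 (hHS ha) hDa hz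
  have hcomm : ∀ x ∈ O, ∀ y ∈ O, Commute x y := by
    intro x hx y hy
    have h1 : (x * y)⁻¹ = x⁻¹ * y⁻¹ := by
      rw [← hinv x hx, ← hinv y hy, ← hinv _ (mul_mem hx hy)]; group
    calc x * y = ((x * y)⁻¹)⁻¹ := (inv_inv _).symm
      _ = y * x := by rw [h1, mul_inv_rev, inv_inv, inv_inv]
  by_contra hD
  have hmemD : ∀ {x : G}, x ∈ D ↔ x ∈ O ∧ x * b = b * x := fun {x} =>
    ⟨fun hx => ⟨hx.1, mem_centralizer_singleton_iff.1 hx.2⟩,
      fun hx => ⟨hx.1, mem_centralizer_singleton_iff.2 hx.2⟩⟩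
  have hHD : centralizer ({t} : Set G) ≤ normalizer (D : Set G) := by
    refine (centralizer_le_sup hg).trans (sup_le ?_ (hab.trans ((closure_le _).2 ?_)))
    · refine le_normalizer_iff.2 fun g hg' x hx => ?_
      rwa [(hcomm g hg' x hx.1).eq, mul_inv_cancel_right]
    · have key : ∀ g : G, (∀ x ∈ D, g * x * g⁻¹ = x ∨ g * x * g⁻¹ = x⁻¹) →
          g ∈ normalizer (D : Set G) := fun g hgx =>
        mem_normalizer_fintype fun x hx => by
          rcases hgx x hx with e | e
          · exact e.symm ▸ hx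
          · exact e.symm ▸ inv_mem hx
      rintro g (rfl | rfl)
      · exact key _ fun x hx => Or.inr (hinv x hx.1)
      · exact key _ fun x hx => Or.inl (by rw [← (hmemD.1 hx).2, mul_inv_cancel_right])
  obtain ⟨g, hg1, hg2⟩ := hθ
  have hgD : g ∈ normalizer (D : Set G) := mem_normalizer_fintype fun x hx => by
    obtain ⟨hxO, hxb⟩ := hmemD.1 hx
    have hxt : x * t = t * x := mem_centralizer_singleton_iff.1 (coreAt_le t hxO)
    have hct : Commute (g * x * g⁻¹) b := by
      rw [← hg1]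
      exact (Commute.conj_iff g).2 hxt
    have hctb : Commute (g * x * g⁻¹) (t * b) := by
      rw [← hg2]
      exact (Commute.conj_iff g).2 hxb
    have hcT : Commute (g * x * g⁻¹) t := by
      have h3 := hctb.mul_right hct.inv_right
      rwa [mul_inv_cancel_right] at h3
    refine hmemD.2 ⟨mem_coreAt_of_odd hg (mem_centralizer_singleton_iff.2 hcT.eq) ?_, hct.eq⟩
    rw [← MulAut.conj_apply, MulEquiv.orderOf_eq]
    have h4 := orderOf_dvd_natCard (⟨x, hxO⟩ : O)
    rw [← Subgroup.orderOf_coe] at h4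
    exact (odd_coreAt t).of_dvd_nat h4
  have hgH : g ∉ centralizer ({t} : Set G) := fun hgt => hbt (by
    rw [← hg1, mem_centralizer_singleton_iff.1 hgt, mul_inv_cancel_right])
  by_cases htop : normalizer (D : Set G) = ⊤
  · rcases h.simple.eq_bot_or_eq_top_of_normal D (normalizer_eq_top_iff.1 htop) with e | e
    · exact hD e
    · have h2 : b ∈ O := ((e.symm ▸ mem_top b : b ∈ D)).1
      have h3 := orderOf_dvd_natCard (⟨b, h2⟩ : O)
      rw [← Subgroup.orderOf_coe, hb2] at h3
      exact (Nat.not_even_iff_odd.2 (odd_coreAt t)) (even_iff_two_dvd.2 h3)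
  · exact hgH (hmax _ hHD htop ▸ hgD)

/-- `D = 1` forces `D' = 1`. -/
theorem pairCore_right_eq_bot (h : Cfg S l c s) (hmax : CentMax l c)
    (hD : pairCore (c ^ l) s = ⊥) (hθ : ∃ g, Fuses g (c ^ l) (c * s)) :
    pairCore (c ^ l) (c * s) = ⊥ := by
  have hg := h.gen
  have hs2 : s * s = 1 := by simpa using hg.out_mul_self 0
  refine pairCore_eq_bot h hmax (fun x hx => ?_) hg.mem_s (mul_mem hg.mem_c hg.mem_s) hs2
    (by simpa using hg.orderOf_out 1) (fun e => hg.out ?_) hD hθ
  · have hc : c ∈ closure ({s, c * s} : Set G) := by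
      have h1 : c * s * s ∈ closure ({s, c * s} : Set G) :=
        mul_mem (subset_closure (by simp)) (subset_closure (by simp))
      rwa [mul_assoc, hs2, mul_one] at h1
    rcases hg.cases x hx with h1 | h1
    · exact zpowers_le.2 hc h1
    · have h2 := mul_mem (zpowers_le.2 hc h1) (subset_closure (by simp : s ∈ ({s, c * s} : Set G)))
      rwa [mul_assoc, hs2, mul_one] at h2
  · have h1 : c⁻¹ * (c * s) ∈ zpowers c :=
      mul_mem (inv_mem (mem_zpowers c)) (e ▸ pow_mem (mem_zpowers c) l)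
    rwa [inv_mul_cancel_left] at h1

/-- `D' = 1` forces `D = 1`. -/
theorem pairCore_left_eq_bot (h : Cfg S l c s) (hmax : CentMax l c)
    (hD' : pairCore (c ^ l) (c * s) = ⊥) (hθ : ∃ g, Fuses g (c ^ l) s) :
    pairCore (c ^ l) s = ⊥ := by
  have hg := h.gen
  have hs2 : s * s = 1 := by simpa using hg.out_mul_self 0
  refine pairCore_eq_bot h hmax (fun x hx => ?_) (mul_mem hg.mem_c hg.mem_s) hg.mem_s
    (by simpa using hg.out_mul_self 1) hg.os (fun e => hg.out ?_) hD' hθ
  · have hc : c ∈ closure ({c * s, s} : Set G) := by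
      have h1 : c * s * s ∈ closure ({c * s, s} : Set G) :=
        mul_mem (subset_closure (by simp)) (subset_closure (by simp))
      rwa [mul_assoc, hs2, mul_one] at h1
    rcases hg.cases x hx with h1 | h1
    · exact zpowers_le.2 hc h1
    · have h2 := mul_mem (zpowers_le.2 hc h1) (subset_closure (by simp : s ∈ ({c * s, s} : Set G)))
      rwa [mul_assoc, hs2, mul_one] at h2
  · rw [e]; exact pow_mem (mem_zpowers c) l

end Cfsg.Agent.H61.GW
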