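import Cfsg.Agent.H61.GW.OneSide
import Cfsg.Agent.H61.GW.Fusing
import Cfsg.Agent.H4.GW.Reduction

/-!
# Gorenstein–Walter: the simple case from the main steps
-/

set_option autoImplicit false
open Cfsg

namespace Cfsg.Agent.H61.GW

open Subgroup Cfsg.Agent Cfsg.Agent.GW

universe u

variable {G : Type u} [Group G]

/-- Replacing `s` by `c * s` gives the configuration for the other class of four groups. -/
theorem mirror {S : Sylow 2 G} {l : ℕ} {c s : G} (h : Cfg S l c s) : Cfg S l c (c * s) := by
  have hg := h.gen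
  have hs2 : s * s = 1 := by
    have h1 := pow_orderOf_eq_one s
    rwa [hg.os, pow_two] at h1
  have hsi : s⁻¹ = s := inv_eq_of_mul_eq_one_left hs2
  have hsc : s * c * s = c⁻¹ := by
    have h1 := hg.inv
    rwa [hsi] at h1
  refine ⟨h.simple, h.nonab, ⟨hg.lpos, hg.mem_c, mul_mem hg.mem_c hg.mem_s, hg.oc, ?_, ?_, ?_, ?_⟩,
    h.proper, h.small⟩
  · refine orderOf_eq_prime ?_ fun e => hg.out ?_
    · rw [pow_two, show c * s * (c * s) = c * (s * c * s) by group, hsc, mul_inv_cancel]
    · rw [eq_inv_of_mul_eq_one_right e]; exact inv_mem (mem_zpowers c)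
  · rw [show c * s * c * (c * s)⁻¹ = c * (s * c * s⁻¹) * c⁻¹ by group, hg.inv]; group
  · exact fun hm => hg.out ((zpowers c).mul_mem_cancel_left (mem_zpowers c) |>.1 hm)
  · intro g hg'
    refine (hg.cases g hg').imp_right fun h1 => ?_
    have h2 : g * s * (s * c * s) = g * (c * s) := by
      rw [show g * s * (s * c * s) = g * (s * s) * (c * s) by group, hs2, mul_one]
    rw [← h2, hsc]
    exact mul_mem h1 (inv_mem (mem_zpowers c))

/-- The simple case of Gorenstein–Walter from the four main steps. -/
theorem simpleCase_of_steps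
    (hOver : ∀ (G : Type u) [Group G] [Finite G], OverStep (G := G))
    (hMax : ∀ (G : Type u) [Group G] [Finite G], MaxStep (G := G))
    (hTwo : ∀ (G : Type u) [Group G] [Finite G], TwoClassStep (G := G))
    (hAlt : ∀ (G : Type u) [Group G] [Finite G], AltStep (G := G)) :
    H4.GW.SimpleCase.{u} := by
  intro G _ _ hsimp S n hn hS hproper hsmall
  haveI := hsimp
  obtain ⟨e⟩ := hS
  obtain ⟨l, c, s, -, -, hg⟩ := H39.exists_dGen (S : Subgroup G) S.isPGroup' hn e
  have hna : ¬ IsMulCommutative G := by
    intro hc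
    let _ : CommGroup G := { ‹Group G› with mul_comm := fun a b => hc.is_comm.comm a b }
    have hp := IsSimpleGroup.prime_card (α := G)
    have h4 : 2 * n ∣ Nat.card G := by
      haveI : NeZero n := ⟨by omega⟩
      rw [← DihedralGroup.nat_card, ← Nat.card_congr e.toEquiv]
      exact card_subgroup_dvd_card _
    rcases (Nat.dvd_prime hp).1 h4 with h1 | h1
    · omega
    · exact Nat.not_prime_mul (by norm_num) (by omega) (h1 ▸ hp)
  have h : Cfg S l c s := ⟨hsimp, hna, hg, hproper, hsmall⟩
  rcases hOver G S l c s h with hO | hmax | ⟨M, hM⟩ | ⟨M, hM⟩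
  · exact shape_of_core_bot h hO
  · by_cases hD : pairCore (c ^ l) s = ⊥
    · exact shape_of_no_fixed h hmax hD (pairCore_right_eq_bot h hmax hD (exists_fuses_right h))
    · by_cases hD' : pairCore (c ^ l) (c * s) = ⊥
      · exact absurd (pairCore_left_eq_bot h hmax hD' (exists_fuses_left h)) hD
      · exact (hMax G S l c s h hmax hD hD').elim
  · exact Or.inr (hAlt G S l c s h M hM (hTwo G S l c s h M hM))
  · exact Or.inr (hAlt G S l c _ (mirror h) M hM (hTwo G S l c _ (mirror h) M hM))

end Cfsg.Agent.H61.GW
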