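import Cfsg.Agent.H82.GW.Setting
import Cfsg.Agent.S0206
import Cfsg.Agent.S0508
import Cfsg.Agent.S0514
import Cfsg.Agent.Linear.Order
import Cfsg.Agent.Unitary.Order72

/-!
# Gorenstein–Walter: the branch `D = D' = 1`

If the centraliser of the central involution is maximal and its odd core meets the centraliser of
no reflection, the group is `PSL(2,q)` by S0508.
-/

set_option autoImplicit false
open Cfsg

namespace Cfsg.Agent.H61.GW

open Subgroup Cfsg.Agent Cfsg.Agent.GW

universe u

variable {G : Type u} [Group G]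

/-- `O(C(a))` lies in `C(a)`. -/
theorem coreAt_le (a : G) : coreAt a ≤ centralizer ({a} : Set G) :=
  map_subtype_le _

/-- `C(a)` normalises `O(C(a))`. -/
theorem conj_mem_coreAt {a g x : G} (hg : g ∈ centralizer ({a} : Set G)) (hx : x ∈ coreAt a) :
    g * x * g⁻¹ ∈ coreAt a := by
  obtain ⟨y, hy, rfl⟩ := hx
  exact ⟨⟨g, hg⟩ * y * ⟨g, hg⟩⁻¹,
    Subgroup.Normal.conj_mem inferInstance y hy _, rfl⟩

/-- `O(C(a))` has odd order. -/
theorem odd_coreAt [Finite G] (a : G) : Odd (Nat.card (coreAt a)) := by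
  rw [coreAt, card_map_of_injective (Subgroup.subtype_injective _)]
  exact Cores.odd_card_oddCore

/-- An involution without fixed points on `O(C(t))` inverts it. -/
theorem inverts [Finite G] {t u : G} (hu : u * u = 1) (hut : u ∈ centralizer ({t} : Set G))
    (h : coreAt t ⊓ centralizer ({u} : Set G) = ⊥) {x : G} (hx : x ∈ coreAt t) :
    u * x * u⁻¹ = x⁻¹ := by
  set φ : coreAt t →* coreAt t :=
    { toFun := fun y => ⟨u * y * u⁻¹, conj_mem_coreAt hut y.2⟩
      map_one' := Subtype.ext (by simp)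
      map_mul' := fun y z => Subtype.ext (by simp [mul_assoc]) } with hφ
  have hfree : MonoidHom.FixedPointFree φ := fun y hy => by
    have h1 : u * y * u⁻¹ = y := congrArg Subtype.val hy
    have h2 : (y : G) ∈ coreAt t ⊓ centralizer ({u} : Set G) :=
      ⟨y.2, mem_centralizer_singleton_iff.2 (mul_inv_eq_iff_eq_mul.1 h1).symm⟩
    rw [h, mem_bot] at h2
    exact Subtype.ext h2
  have hui : u⁻¹ = u := inv_eq_of_mul_eq_one_left hu
  have hinv : Function.Involutive φ := fun y => Subtype.ext (by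
    show u * (u * y * u⁻¹) * u⁻¹ = y
    rw [hui, show u * (u * (y : G) * u) * u = u * u * y * (u * u) by group, hu, one_mul, mul_one])
  exact congrArg Subtype.val (congrFun (hfree.coe_eq_inv_of_involutive hinv) ⟨x, hx⟩)

variable {S : Sylow 2 G} {l : ℕ} {c s : G}

/-- The Sylow subgroup centralises its central involution. -/
theorem sylow_le_centralizer (hg : H39.DGen (S : Subgroup G) l c s) :
    (S : Subgroup G) ≤ centralizer ({c ^ l} : Set G) :=
  fun _ hx => mem_centralizer_singleton_iff.2 (hg.z_central hx)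

/-- The generators of the Sylow subgroup show that it is dihedral. -/
theorem nonempty_dihedral [Finite G] (hg : H39.DGen (S : Subgroup G) l c s) :
    Nonempty ((S : Subgroup G) ≃* DihedralGroup (2 * l)) := by
  have hs2 : s * s = 1 := by simpa using hg.out_mul_self 0
  have hy : orderOf (c * s) = 2 := by simpa using hg.orderOf_out 1
  have hne : c * s ≠ s := fun e => by
    have h1 : c = 1 := mul_eq_right.1 e
    have h2 := hg.oc
    rw [h1, orderOf_one] at h2
    omega
  obtain ⟨e⟩ := Cfsg.Agent.S0206.result (c * s) s hy hg.os hne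
  rw [show c * s * s = c by rw [mul_assoc, hs2, mul_one], hg.oc] at e
  have hcl : closure ({c * s, s} : Set G) = (S : Subgroup G) := by
    refine le_antisymm ((closure_le _).2 ?_) fun g hg' => ?_
    · rintro x (rfl | rfl)
      exacts [mul_mem hg.mem_c hg.mem_s, hg.mem_s]
    · have hc : c ∈ closure ({c * s, s} : Set G) := by
        have h1 : c * s * s ∈ closure ({c * s, s} : Set G) :=
          mul_mem (subset_closure (by simp)) (subset_closure (by simp))
        rwa [mul_assoc, hs2, mul_one] at h1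
      rcases hg.cases g hg' with h | h
      · exact zpowers_le.2 hc h
      · have h1 := mul_mem (zpowers_le.2 hc h) (subset_closure (by simp : s ∈ ({c * s, s} : Set G)))
        rwa [mul_assoc, hs2, mul_one] at h1
  exact ⟨(MulEquiv.subgroupCongr hcl).symm.trans e⟩

/-- Every reflection inverts `O(C(t))` as soon as the two standard ones have no fixed points. -/
theorem reflection_inverts [Finite G] (hg : H39.DGen (S : Subgroup G) l c s)
    (hD : pairCore (c ^ l) s = ⊥) (hD' : pairCore (c ^ l) (c * s) = ⊥) (i : ℤ) {x : G}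
    (hx : x ∈ coreAt (c ^ l)) : c ^ i * s * x * (c ^ i * s)⁻¹ = x⁻¹ := by
  have hmem : ∀ j : ℤ, c ^ j * s ∈ centralizer ({c ^ l} : Set G) := fun j =>
    sylow_le_centralizer hg (mul_mem (hg.zpow_mem j) hg.mem_s)
  have hc : ∀ j : ℤ, c ^ j ∈ centralizer ({c ^ l} : Set G) := fun j =>
    sylow_le_centralizer hg (hg.zpow_mem j)
  have key : ∀ (a : G) (k : ℤ), a ∈ centralizer ({c ^ l} : Set G) → a * a = 1 →
      coreAt (c ^ l) ⊓ centralizer ({a} : Set G) = ⊥ → ∀ y ∈ coreAt (c ^ l),
        c ^ k * a * (c ^ k)⁻¹ * y * (c ^ k * a * (c ^ k)⁻¹)⁻¹ = y⁻¹ := by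
    intro a k hac ha hbot y hy
    have h1 := inverts ha hac hbot (conj_mem_coreAt (inv_mem (hc k)) hy)
    calc c ^ k * a * (c ^ k)⁻¹ * y * (c ^ k * a * (c ^ k)⁻¹)⁻¹
        = c ^ k * (a * ((c ^ k)⁻¹ * y * (c ^ k)⁻¹⁻¹) * a⁻¹) * (c ^ k)⁻¹ := by group
      _ = y⁻¹ := by rw [h1]; group
  have hconj : ∀ (k : ℤ) (j : ℤ), c ^ k * (c ^ j * s) * (c ^ k)⁻¹ = c ^ (j + 2 * k) * s := by
    intro k j
    have h1 : s * c ^ (-k) = c ^ k * s := by
      have h2 := hg.out_conj 0 (-k)
      simp only [zpow_zero, one_mul, neg_neg] at h2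
      exact mul_inv_eq_iff_eq_mul.1 h2
    calc c ^ k * (c ^ j * s) * (c ^ k)⁻¹ = c ^ k * c ^ j * (s * c ^ (-k)) := by
          rw [zpow_neg]; group
      _ = c ^ (j + 2 * k) * s := by rw [h1, ← mul_assoc, ← zpow_add, ← zpow_add]; ring_nf
  rcases Int.even_or_odd i with ⟨k, rfl⟩ | ⟨k, rfl⟩
  · have h1 := key (c ^ (0 : ℤ) * s) k (hmem 0) (hg.out_mul_self 0) (by simpa [pairCore] using hD) x hx
    rw [hconj] at h1
    rwa [show (0 : ℤ) + 2 * k = k + k by ring] at h1
  · have h1 := key (c ^ (1 : ℤ) * s) k (hmem 1) (hg.out_mul_self 1) (by simpa [pairCore] using hD') x hx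
    rw [hconj] at h1
    rwa [show (1 : ℤ) + 2 * k = 2 * k + 1 by ring] at h1

/-- The generator of order `2 * l` centralises `O(C(t))`. -/
theorem commute_core [Finite G] (hg : H39.DGen (S : Subgroup G) l c s)
    (hD : pairCore (c ^ l) s = ⊥) (hD' : pairCore (c ^ l) (c * s) = ⊥) {x : G}
    (hx : x ∈ coreAt (c ^ l)) : Commute c x := by
  have h0 : s * x * s⁻¹ = x⁻¹ := by simpa using reflection_inverts hg hD hD' 0 hx
  have h1 : c * s * x * (c * s)⁻¹ = x⁻¹ := by simpa using reflection_inverts hg hD hD' 1 hx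
  have h2 : c * x⁻¹ * c⁻¹ = x⁻¹ := by
    calc c * x⁻¹ * c⁻¹ = c * (s * x * s⁻¹) * c⁻¹ := by rw [h0]
      _ = c * s * x * (c * s)⁻¹ := by group
      _ = x⁻¹ := h1
  have h3 : c * x * c⁻¹ = x := by
    calc c * x * c⁻¹ = (c * x⁻¹ * c⁻¹)⁻¹ := by group
      _ = x := by rw [h2, inv_inv]
  exact mul_inv_eq_iff_eq_mul.1 h3

/-- The branch `D = D' = 1`. -/
theorem shape_of_no_fixed [Finite G] (h : Cfg S l c s) (hmax : CentMax l c)
    (hD : pairCore (c ^ l) s = ⊥) (hD' : pairCore (c ^ l) (c * s) = ⊥) :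
    H63.GW.SimpleShape G := by
  haveI := h.simple
  have hg := h.gen
  set t := c ^ l with htdef
  set O := coreAt t with hOdef
  have hHS := sylow_le_centralizer hg
  have hnot : O ≠ ⊥ → ∀ g ∈ (S : Subgroup G), g ∉ zpowers c →
      g ∉ centralizer (O : Set G) := by
    intro hO g hgS hgc hgC
    obtain ⟨i, rfl⟩ := hg.out_form hgS hgc
    obtain ⟨x, hx, hx1⟩ := (Subgroup.bot_or_exists_ne_one O).resolve_left hO
    refine hx1 ?_
    have h1 := reflection_inverts hg hD hD' i hx
    rw [← mem_centralizer_iff.1 hgC x hx, mul_inv_cancel_right] at h1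
    have h2 : x ^ 2 = 1 := by rw [pow_two]; nth_rw 1 [h1]; exact inv_mul_cancel x
    have h3 : orderOf x ∣ Nat.gcd 2 (Nat.card O) := Nat.dvd_gcd (orderOf_dvd_of_pow_eq_one h2) (by
      have := orderOf_dvd_natCard (⟨x, hx⟩ : O)
      rwa [← Subgroup.orderOf_coe] at this)
    rw [Nat.coprime_two_left.2 (odd_coreAt t), Nat.dvd_one, orderOf_eq_one_iff] at h3
    exact h3
  have hinC : zpowers c ≤ centralizer (O : Set G) := zpowers_le.2
    (mem_centralizer_iff.2 fun x hx => (commute_core hg hD hD' hx).eq.symm)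
  have hb : ∀ g ∈ (S : Subgroup G), g ∉ centralizer (O : Set G) → ∀ y ∈ O, g * y * g⁻¹ = y⁻¹ := by
    intro g hgS hgC y hy
    obtain ⟨i, rfl⟩ := hg.out_form hgS fun hc => hgC (hinC hc)
    exact reflection_inverts hg hD hD' i hy
  have ha : O ≠ ⊥ → IsCyclic ((S : Subgroup G) ⊓ centralizer (O : Set G) : Subgroup G) ∧
      ((S : Subgroup G) ⊓ centralizer (O : Set G)).relIndex (S : Subgroup G) = 2 := by
    intro hO
    have heq : (S : Subgroup G) ⊓ centralizer (O : Set G) = zpowers c := by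
      refine le_antisymm (fun g hgm => ?_) (le_inf (zpowers_le.2 hg.mem_c) hinC)
      by_contra hgc
      exact hnot hO g hgm.1 hgc hgm.2
    rw [heq]
    refine ⟨inferInstance, Subgroup.relIndex_eq_two_iff.2 ⟨s, hg.mem_s, fun b hb => ?_⟩⟩
    rcases hg.cases b hb with h1 | h1
    · refine Or.inr ⟨h1, fun h2 => hg.out ?_⟩
      have := mul_mem (inv_mem h1) h2
      rwa [inv_mul_cancel_left] at this
    · refine Or.inl ⟨h1, fun h2 => hg.out ?_⟩
      have := mul_mem (inv_mem h2) h1
      rwa [inv_mul_cancel_left] at this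
  have hc : ∀ Y : Subgroup G, Y ≤ O → Y ≠ ⊥ →
      normalizer (Y : Set G) ≤ centralizer ({t} : Set G) := by
    intro Y hYO hY
    have hO : O ≠ ⊥ := fun e => hY (le_bot_iff.1 (e ▸ hYO))
    have hHY : centralizer ({t} : Set G) ≤ normalizer (Y : Set G) := by
      have hcomm : ∀ x ∈ O, ∀ y ∈ O, Commute x y := by
        intro x hx y hy
        have h0 : ∀ z ∈ O, s * z * s⁻¹ = z⁻¹ := fun z hz => by
          simpa using reflection_inverts hg hD hD' 0 hz
        have h1 : (x * y)⁻¹ = x⁻¹ * y⁻¹ := by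
          rw [← h0 x hx, ← h0 y hy, ← h0 _ (mul_mem hx hy)]; group
        calc x * y = ((x * y)⁻¹)⁻¹ := (inv_inv _).symm
          _ = y * x := by rw [h1, mul_inv_rev, inv_inv, inv_inv]
      obtain ⟨N, hN, hNodd, k, hk⟩ := Cfsg.Agent.S0514.result S (2 * l) (by have := hg.lpos; omega)
        (nonempty_dihedral hg) t hg.z_order
      have hNO : N.map (centralizer ({t} : Set G)).subtype ≤ O :=
        map_mono (Cores.le_oddCore hNodd)
      intro x hx
      have hmem : x ∈ N.map (centralizer ({t} : Set G)).subtype ⊔ (S : Subgroup G) := by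
        have htop : N ⊔ (S : Subgroup G).subgroupOf (centralizer ({t} : Set G)) = ⊤ := by
          haveI := hN
          refine Subgroup.index_eq_one.1 (Nat.eq_one_of_dvd_coprimes ?_
            (Subgroup.index_dvd_of_le le_sup_left) (Subgroup.index_dvd_of_le le_sup_right))
          rw [hk]
          refine Nat.Coprime.pow_left k (Nat.coprime_two_left.2 ?_)
          rw [← Nat.not_even_iff_odd, even_iff_two_dvd]
          exact (S.subtype hHS).not_dvd_index
        have h1 : (⟨x, hx⟩ : centralizer ({t} : Set G)) ∈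
            N ⊔ (S : Subgroup G).subgroupOf (centralizer ({t} : Set G)) := htop ▸ mem_top _
        have h2 := mem_map_of_mem (centralizer ({t} : Set G)).subtype h1
        rwa [Subgroup.map_sup, map_subgroupOf_eq_of_le hHS] at h2
      refine (sup_le (fun a ha => ?_) (fun a ha => ?_) : _ ≤ normalizer (Y : Set G)) hmem
      · refine mem_normalizer_iff.2 fun y => ?_
        constructor
        · intro hy
          rwa [(hcomm a (hNO ha) y (hYO hy)).eq, mul_inv_cancel_right]
        · intro hy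
          have h1 := (hcomm _ (inv_mem (hNO ha)) _ (hYO hy)).eq
          have h2 : a⁻¹ * (a * y * a⁻¹) * a = a * y * a⁻¹ := by rw [h1, inv_mul_cancel_right]
          rw [show a⁻¹ * (a * y * a⁻¹) * a = y by group] at h2
          rwa [h2]
      · refine (le_normalizer_iff.2 fun g hg' y hy => ?_ : (S : Subgroup G) ≤ _) ha
        by_cases hgc : g ∈ centralizer (O : Set G)
        · rwa [← mem_centralizer_iff.1 hgc y (hYO hy), mul_inv_cancel_right]
        · rw [hb g hg' hgc y (hYO hy)]; exact inv_mem hy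
    by_cases htop : normalizer (Y : Set G) = ⊤
    · exfalso
      rcases h.simple.eq_bot_or_eq_top_of_normal Y (normalizer_eq_top_iff.1 htop) with h1 | h1
      · exact hY h1
      · have h2 : (S : Subgroup G) ≤ O := le_top.trans (h1 ▸ hYO)
        have h3 := orderOf_dvd_natCard (⟨s, h2 hg.mem_s⟩ : O)
        rw [← Subgroup.orderOf_coe, hg.os] at h3
        exact (Nat.not_even_iff_odd.2 (odd_coreAt t)) (even_iff_two_dvd.2 h3)
    · exact (hmax _ hHY htop).le
  obtain ⟨F, i1, i2, hodd, ⟨e⟩⟩ := Cfsg.Agent.S0508.result S (2 * l)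
    (by have := hg.lpos; omega) (nonempty_dihedral hg) t hg.z_order hg.z_mem
    (fun g hg' => hg.z_central hg') O rfl ha hb hc
  refine Or.inl ⟨F, i1, i2, hodd, ?_, ⟨e⟩⟩
  by_contra h3
  have h3' : Fintype.card F = 3 := by
    obtain ⟨k, hk⟩ := hodd
    have := Fintype.one_lt_card (α := F)
    omega
  have h4 := Cfsg.Agent.Linear.card_PSL_two_mul (F := F)
  rw [h3', ← Nat.card_congr e.toEquiv] at h4
  norm_num at h4
  haveI := Cfsg.Agent.Unitary.isSolvable_of_card_dvd_24 (G := G) (m := Nat.card G) rfl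
    (by rw [show Nat.card G = 12 by omega]; norm_num)
  exact h.nonab ((IsSimpleGroup.comm_iff_isSolvable).2 inferInstance |> fun hc => ⟨⟨hc⟩⟩)

end Cfsg.Agent.H61.GW
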